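import Groth.Prelude.Def_W4c1extbt15Mult
import Groth.Prelude.Def_CGrpSh
import Groth.Agent.FppfCmp.Exact
import Mathlib

/-!
Descent of morphisms along epimorphisms of fppf sheaves, and multilinear algebra of points.
-/

set_option autoImplicit false
set_option linter.style.haveILetI false

universe u v u'

open CategoryTheory CategoryTheory.Limits MonoidalCategory CartesianMonoidalCategory MonObj
open AlgebraicGeometry

namespace Groth.Agent.MultSchLib

section Tuple

variable {C : Type u'} [Category.{v} C] [CartesianMonoidalCategory C]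

theorem comp_tuple {M T T' : C} (k : T' ⟶ T) : ∀ {n : ℕ} (x : Fin n → (T ⟶ M)),
    k ≫ MultSch.tuple x = MultSch.tuple fun i => k ≫ x i
  | 0, _ => toUnit_unique _ _
  | _ + 1, x => by
    show k ≫ lift (x 0) _ = lift _ _
    rw [comp_lift, comp_tuple k]

/-- The projections from the `n`-fold power. -/
def proj {M : C} : {n : ℕ} → Fin n → (MultSch.pow M n ⟶ M)
  | _ + 1, i => Fin.cases (fst M _) (fun j => snd M _ ≫ proj j) i

theorem tuple_proj {M T : C} : ∀ {n : ℕ} (x : Fin n → (T ⟶ M)) (i : Fin n),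
    MultSch.tuple x ≫ proj i = x i
  | _ + 1, x, i => by
    refine Fin.cases ?_ (fun j => ?_) i
    · exact lift_fst _ _
    · show MultSch.tuple x ≫ snd M _ ≫ proj j = _
      exact (lift_snd_assoc _ _ _).trans (tuple_proj (fun l => x l.succ) j)

theorem tuple_eta {M T : C} : ∀ {n : ℕ} (t : T ⟶ MultSch.pow M n),
    MultSch.tuple (fun i => t ≫ proj i) = t
  | 0, t => toUnit_unique _ _
  | n + 1, t => by
    show lift (t ≫ fst M _) (MultSch.tuple fun i => t ≫ snd M _ ≫ proj i) = t
    have := tuple_eta (t ≫ snd M (MultSch.pow M n))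
    simp only [Category.assoc] at this
    rw [this]
    exact (comp_lift t _ _).symm.trans ((congrArg (t ≫ ·) lift_fst_snd).trans (Category.comp_id t))

/-- The power of a morphism. -/
def powMap {M M' : C} (π : M ⟶ M') (n : ℕ) : MultSch.pow M n ⟶ MultSch.pow M' n :=
  MultSch.tuple fun i => proj i ≫ π

theorem tuple_powMap {M M' T : C} (π : M ⟶ M') {n : ℕ} (x : Fin n → (T ⟶ M)) :
    MultSch.tuple x ≫ powMap π n = MultSch.tuple fun i => x i ≫ π := by
  rw [powMap, comp_tuple]
  simp only [← Category.assoc, tuple_proj]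

theorem tuple_update_comp {M M' T : C} (π : M ⟶ M') {n : ℕ} (x : Fin n → (T ⟶ M)) (i : Fin n)
    (a : T ⟶ M) : (fun l => Function.update x i a l ≫ π) =
      Function.update (fun l => x l ≫ π) i (a ≫ π) := by
  ext l
  exact Function.apply_update (fun _ (z : T ⟶ M) => z ≫ π) x i a l

theorem comp_update {M T T' : C} (k : T' ⟶ T) {n : ℕ} (x : Fin n → (T ⟶ M)) (i : Fin n)
    (a : T ⟶ M) : (fun l => k ≫ Function.update x i a l) =
      Function.update (fun l => k ≫ x l) i (k ≫ a) := by
  ext l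
  exact Function.apply_update (fun _ (z : T ⟶ M) => k ≫ z) x i a l

variable [BraidedCategory C] {M N : C} [GrpObj M] [GrpObj N] [IsCommMonObj N] {n : ℕ}

theorem swap_inv {φ : MultSch.pow M n ⟶ N} (hm : MultSch.IsMultilinear φ)
    (ha : MultSch.IsAlternating φ) (T : C) (x : Fin n → (T ⟶ M)) {i j : Fin n} (hij : i ≠ j)
    (h : MultSch.tuple (x ∘ Equiv.swap i j) ≫ φ = 1) : MultSch.tuple x ≫ φ = 1 := by
  classical
  let g : (T ⟶ M) → (T ⟶ M) → (T ⟶ N) := fun a b =>
    MultSch.tuple (Function.update (Function.update x i a) j b) ≫ φ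
  have hgl : ∀ a a' b, g (a * a') b = g a b * g a' b := fun a a' b => by
    simp only [g, Function.update_comm hij]
    exact hm T (Function.update x j b) i a a'
  have hgr : ∀ a b b', g a (b * b') = g a b * g a b' := fun a b b' =>
    hm T (Function.update x i a) j b b'
  have hdiag : ∀ a, g a a = 1 := fun a => ha T _ i j hij (by simp [Function.update_of_ne hij])
  have key := hdiag (x i * x j)
  rw [hgl, hgr, hgr, hdiag, hdiag, _root_.one_mul, _root_.mul_one] at key
  have h1 : g (x i) (x j) = MultSch.tuple x ≫ φ := by simp [g]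
  have h2 : g (x j) (x i) = 1 := by
    rw [← h]
    simp only [g]
    congr 2
    ext l
    rcases eq_or_ne l j with rfl | hlj
    · simp
    · rw [Function.update_of_ne hlj]
      rcases eq_or_ne l i with rfl | hli
      · simp
      · simp [Function.update_of_ne hli, Equiv.swap_apply_of_ne_of_ne hli hlj]
  rwa [h1, h2, _root_.mul_one] at key

end Tuple

section Site

variable {S : Scheme.{u}}

/-- The fppf topology on schemes over `S`. -/
local notation "JS" => QuotSh.J Scheme.fppfPrecoverage S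

theorem isSheafFor (H : Over S) {T : Over S} {R : Sieve T} (hR : R ∈ JS T) :
    Presieve.IsSheafFor (yoneda.obj H) R.arrows :=
  GrothendieckTopology.Subcanonical.isSheaf_of_isRepresentable (J := JS) (yoneda.obj H) R hR

theorem hom_ext_cover {H T : Over S} {R : Sieve T} (hR : R ∈ JS T) (a b : T ⟶ H)
    (h : ∀ ⦃V : Over S⦄ (k : V ⟶ T), R k → k ≫ a = k ≫ b) : a = b :=
  (isSheafFor H hR).isSeparatedFor.ext fun _ k hk => h k hk

/-- The arrows along which a point lifts. -/
def liftSieve {G H T : Over S} (π : G ⟶ H) (x : T ⟶ H) : Sieve T where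
  arrows V k := ∃ z : V ⟶ G, z ≫ π = k ≫ x
  downward_closed := fun {V W k} ⟨z, hz⟩ g => ⟨g ≫ z, by rw [Category.assoc, hz, Category.assoc]⟩

variable {G H : Over S} [GrpObj G] [IsCommMonObj G] [GrpObj H] [IsCommMonObj H]

theorem liftSieve_mem (π : G ⟶ H) [IsMonHom π]
    (hepi : Epi (CGrpSh.ptsMap Scheme.fppfPrecoverage π)) {T : Over S} (x : T ⟶ H) :
    liftSieve π x ∈ JS T := by
  have hl : Sheaf.IsLocallySurjective (CGrpSh.ptsMap Scheme.fppfPrecoverage π) :=
    (Sheaf.isLocallySurjective_iff_epi' (A := AddCommGrpCat.{u + 1}) _).2 hepi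
  refine GrothendieckTopology.superset_covering _ (fun V k hk => ?_)
    (hl.imageSieve_mem (U := T) (ULift.up (Additive.ofMul x)))
  obtain ⟨z, hz⟩ := hk
  exact ⟨z.down.toMul, congrArg (fun y => y.down.toMul) hz⟩

theorem liftSieve_mem_of_exact {L : Over S} [GrpObj L] [IsCommMonObj L] (j : L ⟶ G) (π : G ⟶ H)
    [IsMonHom j] [IsMonHom π] (w : j ≫ π = 1)
    (hex : (CGrpSh.seq Scheme.fppfPrecoverage j π w).Exact) {T : Over S} (x : T ⟶ G)
    (hx : x ≫ π = 1) : liftSieve j x ∈ JS T := by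
  refine GrothendieckTopology.superset_covering _ (fun V k hk => ?_)
    (FppfCmp.imageSieve_mem_of_exact hex T (ULift.up (Additive.ofMul x))
      (ULift.ext _ _ (congrArg Additive.ofMul hx)))
  obtain ⟨z, hz⟩ := hk
  exact ⟨z.down.toMul, congrArg (fun y => y.down.toMul) hz⟩

omit [GrpObj G] [IsCommMonObj G] [GrpObj H] [IsCommMonObj H] in
theorem liftSieve_pow_mem (π : G ⟶ H) (hπ : ∀ {T : Over S} (x : T ⟶ H), liftSieve π x ∈ JS T) :
    ∀ {n : ℕ} {T : Over S} (t : T ⟶ MultSch.pow H n), liftSieve (powMap π n) t ∈ JS T := by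
  intro n T t
  suffices h : ∀ s : Finset (Fin n), ∃ R ∈ JS T, ∀ ⦃V : Over S⦄ (k : V ⟶ T), R k →
      ∀ i ∈ s, ∃ z : V ⟶ G, z ≫ π = k ≫ t ≫ proj i by
    obtain ⟨R, hR, hRk⟩ := h Finset.univ
    refine GrothendieckTopology.superset_covering _ (fun V k hk => ?_) hR
    choose z hz using fun i => hRk k hk i (Finset.mem_univ i)
    refine ⟨MultSch.tuple z, ?_⟩
    rw [tuple_powMap]
    simp only [hz]
    rw [← comp_tuple]
    exact congrArg (k ≫ ·) (tuple_eta t)
  intro s
  induction s using Finset.induction_on with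
  | empty => exact ⟨⊤, GrothendieckTopology.top_mem _ _, by simp⟩
  | @insert a s _ ih =>
    obtain ⟨R, hR, hRk⟩ := ih
    refine ⟨R ⊓ liftSieve π (t ≫ proj a),
      GrothendieckTopology.intersection_covering _ hR (hπ _), fun V k hk i hi => ?_⟩
    rcases Finset.mem_insert.1 hi with rfl | hi
    · exact hk.2
    · exact hRk k hk.1 i hi

omit [GrpObj G] [IsCommMonObj G] [GrpObj H] [IsCommMonObj H] in
/-- A morphism constant on the fibres of a locally liftable morphism descends. -/
theorem descend {U W N : Over S} (p : U ⟶ W) (hp : liftSieve p (𝟙 W) ∈ JS W) (φ : U ⟶ N)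
    (hφ : ∀ (V : Over S) (z z' : V ⟶ U), z ≫ p = z' ≫ p → z ≫ φ = z' ≫ φ) :
    ∃ φ' : W ⟶ N, p ≫ φ' = φ ∧ ∀ φ'' : W ⟶ N, p ≫ φ'' = φ → φ'' = φ' := by
  let fam : Presieve.FamilyOfElements (yoneda.obj N) (liftSieve p (𝟙 W)).arrows :=
    fun V k hk => hk.choose ≫ φ
  have hfam : ∀ {V : Over S} (k : V ⟶ W) (hk : liftSieve p (𝟙 W) k) (z : V ⟶ U),
      z ≫ p = k → fam k hk = z ≫ φ := fun k hk z hz =>
    hφ _ _ _ (hk.choose_spec.trans ((Category.comp_id k).trans hz.symm))
  have hcomp : fam.Compatible := by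
    intro Y₁ Y₂ V g₁ g₂ f₁ f₂ h₁ h₂ e
    show g₁ ≫ (h₁.choose ≫ φ) = g₂ ≫ (h₂.choose ≫ φ)
    rw [← Category.assoc, ← Category.assoc]
    refine hφ _ _ _ ?_
    rw [Category.assoc, Category.assoc, h₁.choose_spec, h₂.choose_spec, Category.comp_id,
      Category.comp_id, e]
  obtain ⟨φ', hφ', huniq⟩ := isSheafFor N hp fam hcomp
  have hp' : liftSieve p (𝟙 W) p := ⟨𝟙 U, by simp⟩
  refine ⟨φ', ?_, fun φ'' h'' => huniq φ'' fun V k hk => ?_⟩
  · exact (hφ' p hp').trans ((hfam p hp' (𝟙 U) (Category.id_comp _)).trans (Category.id_comp _))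
  · show k ≫ φ'' = _
    obtain ⟨z, hz⟩ := hk
    rw [hfam k ⟨z, hz⟩ z (hz.trans (Category.comp_id _)), ← h'', ← Category.assoc, hz,
      Category.comp_id]

end Site

end Groth.Agent.MultSchLib
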